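import Cfsg.Agent.H17.CR.Orth
import Cfsg.Agent.PQ.Th.Grp

/-!
# PQ rows (helper70): the numbers behind commuting Sylow subgroups of symplectic and orthogonal groups

* `ng F p`, `ord_of` : the parameters `k = dd F p`, `ng` of a prime;
* `dd_same`, `nn_pos`, `nn_lt`, `sign_or` : for every family of helper17;
* `sg_sp` : equal signs for the symplectic groups;
* `exists_gen` : an element which generates a Sylow subgroup in the exceptional case.
-/

set_option autoImplicit false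
set_option linter.unusedSectionVars false

namespace Cfsg.Agent.PQ.Row

open Cfsg Cfsg.Agent.H17.CR Cfsg.Agent.H630.NH Cfsg.Agent.PQ.Th

variable {F : Type} [Field F] [Fintype F] {p r : ℕ}

/-- the unitary case -/
noncomputable def ng (F : Type) [Field F] [Fintype F] (p : ℕ) : Bool := decide (sg F p = -1)

theorem sg_eq (p : ℕ) : sg F p = if ng F p then -1 else 1 := by
  unfold ng
  rcases sg_pm F p with h | h <;> simp [h]

theorem ng_congr (h : sg F p = sg F r) : ng F p = ng F r := by unfold ng; rw [h]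

theorem ord_of (hp : Good F p) : Ord (Nat.card F) (dd F p) (ng F p) p := by
  have := Fact.mk hp.prime
  refine ⟨hp.prime, hp.ne_two, ?_⟩
  rw [Nat.card_eq_fintype_card]
  have h0 : 0 < orderOf (Fintype.card F : ZMod p) := by
    have h := H749.orderOf_pos_of (p := p) (x := (Fintype.card F : ℤ)) fun h => hp.not_dvd (Int.natCast_dvd_natCast.1 h)
    rwa [Int.cast_natCast] at h
  have h1 : dd F p = orderOf (Fintype.card F : ZMod p) / Nat.gcd (orderOf (Fintype.card F : ZMod p)) 2 :=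
    orderOf_pow' _ two_ne_zero
  have h2 : sg F p = if orderOf (Fintype.card F : ZMod p) ∣ dd F p then 1 else -1 := by
    unfold sg
    refine if_congr ?_ rfl rfl
    rw [H749.dvd_pow_sub_one_iff, Int.cast_natCast]
  generalize orderOf (Fintype.card F : ZMod p) = d at *
  rcases Nat.even_or_odd d with ⟨e, rfl⟩ | h
  · rw [← two_mul, Nat.gcd_eq_right (Dvd.intro e rfl), Nat.mul_div_cancel_left _ two_pos] at h1
    rw [h1, if_neg fun h => by have := Nat.le_of_dvd (by omega) h; omega] at h2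
    rw [ng, h2, h1, two_mul]
    simp
  · rw [Nat.Coprime.gcd_eq_one (Nat.coprime_two_right.2 h), Nat.div_one] at h1
    rw [h1, if_pos dvd_rfl] at h2
    rw [ng, h2, h1]
    simpa using h

section fam

variable (Φ : Fam F) {n : ℕ} {ε : ℤ} {X : Spc F} (hp : Good F p) (hr : Good F r) (hX : Φ.T n ε X)
include hp hr hX

omit hX in
theorem good_two : ∀ s ∈ ({p, r} : Set ℕ), Good F s := by
  rintro s (rfl | rfl)
  exacts [hp, hr]

omit hr in
theorem nn_pos (h : p ∣ Nat.card X.G) : 0 < NN Φ.bT (dd F p) (Φ.s p) n ε := by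
  by_contra h1
  have h3 := Φ.evT hX hp
  rw [Nat.eq_zero_of_not_pos h1, nu_zero] at h3
  exact not_dvd_of_ev hp.prime h3 h

omit hr in
theorem not_dvd_of_nn (h : NN Φ.bT (dd F p) (Φ.s p) n ε = 0) : ¬ p ∣ Nat.card X.G :=
  fun h1 => (nn_pos Φ hp hX h1).ne' h

variable (h1 : p ∣ Nat.card X.G) (h2 : r ∣ Nat.card X.G) (hc : Cond {p, r} X.G)
include h1 h2 hc

theorem dd_same : dd F r = dd F p := by
  have hdv : ∀ s ∈ ({p, r} : Set ℕ), s ∣ Nat.card X.G := by
    rintro s (rfl | rfl)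
    exacts [h1, h2]
  rcases lt_trichotomy (dd F r) (dd F p) with h | h | h
  · exact absurd hc (Φ.not_cond_of_dd (good_two hp hr) hX hdv (.inr rfl) (.inl rfl) h)
  · exact h
  · exact absurd hc (Φ.not_cond_of_dd (good_two hp hr) hX hdv (.inl rfl) (.inr rfl) h)

theorem dd_two : ∀ s ∈ ({p, r} : Set ℕ), dd F s = dd F p := by
  rintro s (rfl | rfl)
  exacts [rfl, dd_same Φ hp hr hX h1 h2 hc]

theorem nn_lt (hne : p ≠ r) (hs : Φ.s r = Φ.s p) :
    NN Φ.bT (dd F p) (Φ.s p) n ε < p ∧ NN Φ.bT (dd F p) (Φ.s p) n ε < r := by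
  have hπ := good_two hp hr
  have hdd := dd_two Φ hp hr hX h1 h2 hc
  have hss : ∀ s ∈ ({p, r} : Set ℕ), Φ.s s = Φ.s p := by
    rintro s (rfl | rfl)
    exacts [rfl, hs]
  have key := fun {a b : ℕ} (ha : a ∈ ({p, r} : Set ℕ)) (hb : b ∈ ({p, r} : Set ℕ)) (h : a < b) =>
    (Φ.sys hp.dd_pos (Φ.sgn hp) hπ hdd hss).lt_of_cond (fun s hs => (hπ s hs).prime)
      (fun s hs => hdd s hs ▸ (hπ s hs).two_dd) (fun s hs => (hπ s hs).vv_pos) (t := (n, ε)) hX hc ha hb h
  rcases lt_or_gt_of_ne hne with h | h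
  · exact ⟨key (.inl rfl) (.inr rfl) h, (key (.inl rfl) (.inr rfl) h).trans h⟩
  · exact ⟨(key (.inr rfl) (.inl rfl) h).trans h, key (.inr rfl) (.inl rfl) h⟩

theorem sign_aux (hs : Φ.s p ≠ Φ.s r) : Φ.bT ∧ ∃ k, n = dd F p * k ∧ 1 ≤ k ∧ Φ.s p ^ k ≠ ε := by
  have hπ := good_two hp hr
  have hdd := dd_two Φ hp hr hX h1 h2 hc
  have hN := nn_pos Φ hp hX h1
  have hN' := nn_pos Φ hr hX h2
  have hd0 := hp.dd_pos
  rw [hdd r (.inr rfl)] at hN'
  generalize dd F p = d at *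
  have hdn : d ≤ n := by
    have := NN_mul_le (Φ.s p) ε hN
    omega
  by_cases hb : Φ.bT ∧ d ∣ n
  swap
  · exfalso
    refine Φ.not_cond_one hπ hdd hX (.inl rfl) (.inr rfl) hs hdn (fun h h' => absurd ⟨h, by rw [h']⟩ hb) ?_ hc
    have h1 : NN Φ.bT d (Φ.s p) n ε = n / d := if_neg fun h => hb ⟨h.1, h.2.1⟩
    have h2 : NN Φ.bT d (Φ.s p) (n - d) (ε * Φ.s r) = (n - d) / d := if_neg fun h => hb ⟨h.1, by
      have := dvd_add h.2.1 (dvd_refl d)
      rwa [Nat.sub_add_cancel hdn] at this⟩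
    rw [h1, h2]
    have h3 : n / d = (n - d) / d + 1 := by
      rw [← Nat.add_div_right _ hd0, Nat.sub_add_cancel hdn]
    omega
  obtain ⟨hbT, k, rfl⟩ := hb
  have hkd : d * k / d = k := Nat.mul_div_cancel_left k hd0
  refine ⟨hbT, k, rfl, Nat.pos_of_ne_zero (by rintro rfl; omega), fun heq => ?_⟩
  have h3 : NN Φ.bT d (Φ.s p) (d * k) ε = k := by
    unfold NN
    rw [hkd, if_neg (fun h => h.2.2 heq)]
  refine Φ.not_cond_one hπ hdd hX (.inl rfl) (.inr rfl) hs hdn (fun _ h => ?_) ?_ hc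
  · exfalso
    have hk1 : k = 1 := Nat.eq_of_mul_eq_mul_left hd0 (by omega)
    rw [hk1, mul_one, NN_ne hbT hd0] at hN'
    · omega
    · rw [← heq, hk1, pow_one]
      exact hs.symm
  · have h4 : (d * k - d) / d = k - 1 := by
      rw [← Nat.mul_sub_one, Nat.mul_div_cancel_left _ hd0]
    have h5 := NN_le (b := Φ.bT) (d := d) (n := d * k - d) (Φ.s p) (ε * Φ.s r)
    rw [h4] at h5
    omega

theorem sign_lt (hs : Φ.s p ≠ Φ.s r) (hlt : p < r) : Φ.bT ∧ n = 2 * dd F p ∧ ε = -1 := by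
  have hπ := good_two hp hr
  have hdd := dd_two Φ hp hr hX h1 h2 hc
  obtain ⟨hb, k, hk, hk1, g1⟩ := sign_aux Φ hp hr hX h1 h2 hc hs
  obtain ⟨-, k', hk', -, g2⟩ := sign_aux Φ hr hp hX h2 h1 (Set.pair_comm p r ▸ hc) hs.symm
  have hd0 := hp.dd_pos
  rw [hdd r (.inr rfl)] at hk'
  obtain rfl : k = k' := Nat.eq_of_mul_eq_mul_left hd0 (hk.symm.trans hk')
  have hε : ε = -1 ∧ Even k := by
    rcases Nat.even_or_odd k with h | h <;> rcases Φ.signT hX with rfl | rfl <;> rcases Φ.sgn hp with a | a <;>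
      rcases Φ.sgn hr with b | b <;> rw [a] at g1 hs <;> rw [b] at g2 hs <;>
      first
        | exact ⟨rfl, h⟩
        | exact absurd rfl hs
        | exact absurd (one_pow _) g1
        | exact absurd (one_pow _) g2
        | exact absurd h.neg_one_pow g1
        | exact absurd h.neg_one_pow g2
  refine ⟨hb, ?_, hε.1⟩
  generalize dd F p = d at *
  subst hk
  rcases Nat.lt_or_ge 2 k with hk2 | hk2
  · exfalso
    refine Φ.not_cond_two hπ hdd hX (.inl rfl) (.inr rfl) hs hlt ?_ ?_ hc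
    · rw [mul_comm]
      exact Nat.mul_lt_mul_of_pos_left hk2 hd0
    · have h3 : NN Φ.bT d (Φ.s p) (d * k) ε = k - 1 := by
        unfold NN
        rw [Nat.mul_div_cancel_left k hd0, if_pos ⟨hb, Dvd.intro k rfl, g1⟩]
      have h4 : (d * k - 2 * d) / d = k - 2 := by
        rw [mul_comm 2 d, ← Nat.mul_sub, Nat.mul_div_cancel_left _ hd0]
      have h5 := NN_le (b := Φ.bT) (d := d) (n := d * k - 2 * d) (Φ.s p) ε
      rw [h4] at h5
      omega
  · obtain ⟨m, hm⟩ := hε.2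
    rw [show k = 2 by omega, mul_comm]

/-- **equal signs, with one exception** -/
theorem sign_or (hne : p ≠ r) : Φ.s r = Φ.s p ∨ (Φ.bT ∧ n = 2 * dd F r ∧ ε = -1) := by
  by_cases hs : Φ.s r = Φ.s p
  · exact .inl hs
  · rcases lt_or_gt_of_ne hne with h | h
    · rw [dd_same Φ hp hr hX h1 h2 hc]
      exact .inr (sign_lt Φ hp hr hX h1 h2 hc (Ne.symm hs) h)
    · exact .inr (sign_lt Φ hr hp hX h2 h1 (Set.pair_comm p r ▸ hc) hs h)

end fam

section eig

variable {M : Type} [AddCommGroup M] [Module F M] [FiniteDimensional F M] {B : M → M → F} {d : ℕ}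

theorem ord_eig [Fact r.Prime] (h : Eig.Hyp B r d) {K : Type} [Field K] [Algebra F K] [IsAlgClosed K] {a : M ≃ₗ[F] M}
    (ha : ∀ u v, B (a u) (a v) = B u v) (hq : orderOf a = r) {y : K} (hy : y ∈ Eig.R K (a : Module.End F M)) :
    orderOf y = r := by
  obtain ⟨w, hw, hc⟩ := h.exists_w
  obtain ⟨x, -, hx1, hxq, hR, -⟩ := h.orbit (K := K) ha hq hw hc
  rw [hR] at hy
  obtain ⟨c, -, rfl⟩ := hy
  refine orderOf_eq_prime (by rw [← pow_mul, mul_comm, pow_mul, hxq, one_pow]) fun hc2 => ?_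
  have h6 := orderOf_dvd_of_pow_eq_one hc2
  rw [orderOf_eq_prime hxq hx1] at h6
  exact c.ne_zero ((ZMod.val_eq_zero _).1 (Nat.eq_zero_of_dvd_of_lt h6 (ZMod.val_lt _)))

theorem no_mix (hp : Eig.Hyp B p d) (hr : Eig.Hyp B r d) (hne : p ≠ r) {a b : M ≃ₗ[F] M}
    (ha : ∀ u v, B (a u) (a v) = B u v) (hb : ∀ u v, B (b u) (b v) = B u v) (h1 : orderOf a = p) (h2 : orderOf b = r)
    (hab : Commute a b) (o1 : Ord (Nat.card F) d false p) (o2 : Ord (Nat.card F) d true r) : False := by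
  have := Fact.mk hp.prime
  have := Fact.mk hr.prime
  have hco : Nat.Coprime p r := (Nat.coprime_primes hp.prime hr.prime).2 hne
  obtain ⟨-, -, o1, o3⟩ := o1
  replace o2 : orderOf (Nat.card F : ZMod r) = 2 * d := o2.2.2
  rw [Nat.card_eq_fintype_card] at o1 o2
  have iso : ∀ {c : M ≃ₗ[F] M}, (∀ u v, B (c u) (c v) = B u v) → ∀ j : ℕ, ∀ u v, B ((c ^ j) u) ((c ^ j) v) = B u v := by
    intro c hc j
    induction j with
    | zero => exact fun _ _ => rfl
    | succ j ih => exact fun u v => by rw [pow_succ]; exact (ih _ _).trans (hc u v)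
  have e1 : (a * b) ^ p = b ^ p := by rw [hab.mul_pow, ← h1, pow_orderOf_eq_one, one_mul]
  have e2 : (a * b) ^ r = a ^ r := by rw [hab.mul_pow, ← h2, pow_orderOf_eq_one, mul_one]
  have e3 : orderOf (b ^ p) = r := by rw [Nat.Coprime.orderOf_pow (by rw [h2]; exact hco.symm), h2]
  have e4 : orderOf (a ^ r) = p := by rw [Nat.Coprime.orderOf_pow (by rw [h1]; exact hco), h1]
  have hg : ∀ u v, B ((a * b) u) ((a * b) v) = B u v := fun u v => (ha _ _).trans (hb u v)
  generalize a * b = g at *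
  have e5 : (g : Module.End F M) ^ (p * r) = 1 := by
    rw [← Eig.toEnd_pow, pow_mul, e1, ← e3, pow_orderOf_eq_one]
    rfl
  obtain ⟨x, hx, -⟩ := Eig.exists_mem_R (AlgebraicClosure F) (A := (g : Module.End F M)) (q := p * r)
    (by rw [Nat.cast_mul]; exact mul_ne_zero hp.ne_zero hr.ne_zero) e5 fun h => by
      have h3 : g = 1 := LinearEquiv.ext fun u => LinearMap.congr_fun h u
      rw [← e1, h3, one_pow, orderOf_one] at e3
      exact hr.prime.one_lt.ne e3
  have y1 : orderOf (x ^ p) = r := ord_eig hr (iso hb p) e3 (by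
    rw [← e1, Eig.toEnd_pow]; exact Eig.pow_mem_R _ hx p)
  have y2 : orderOf (x ^ r) = p := ord_eig hp (iso ha r) e4 (by
    rw [← e2, Eig.toEnd_pow]; exact Eig.pow_mem_R _ hx r)
  have f1 : ∀ i : ℕ, x ^ Fintype.card F ^ i ∈ Eig.R (AlgebraicClosure F) (g : Module.End F M) := by
    intro i
    induction i with
    | zero => rwa [pow_zero, pow_one]
    | succ i ih => rw [pow_succ, pow_mul]; exact Eig.frob_mem_R _ ih
  have f2 : Set.InjOn (fun i : ℕ => x ^ Fintype.card F ^ i) (Set.Iio (2 * d)) := by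
    intro i hi j hj h
    have h3 : (x ^ p) ^ Fintype.card F ^ i = (x ^ p) ^ Fintype.card F ^ j := by
      rw [← pow_mul, ← pow_mul, mul_comm, mul_comm p, pow_mul, pow_mul]
      exact congrArg (· ^ p) h
    rw [(orderOf_pos_iff.1 (y1 ▸ hr.prime.pos)).pow_eq_pow_iff_modEq, y1, ← ZMod.natCast_eq_natCast_iff, Nat.cast_pow,
      Nat.cast_pow] at h3
    exact pow_injOn_Iio_orderOf (o2 ▸ hi) (o2 ▸ hj) h3
  have f3 : (fun i : ℕ => x ^ Fintype.card F ^ i) '' Set.Iio (2 * d) = Eig.R (AlgebraicClosure F) (g : Module.End F M) := by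
    refine Set.eq_of_subset_of_ncard_le (by rintro _ ⟨i, -, rfl⟩; exact f1 i) ?_ (Eig.finite_R _ _)
    rw [f2.ncard_image, Set.ncard_Iio_nat, ← hr.dim]
    exact (Eig.ncard_R_le _ _).trans (Eig.natDegree_le _)
  have hpos : 1 ≤ p * r := Nat.mul_pos hp.prime.pos hr.prime.pos
  have f4 := Eig.inv_mem_R (AlgebraicClosure F) hr.bil (A := (g : Module.End F M)) hg hpos e5 hx
  rw [← f3] at f4
  obtain ⟨i, -, hi⟩ := f4
  have f5 : (x ^ r) ^ (Fintype.card F ^ i + 1) = 1 := by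
    have h3 : x ^ Fintype.card F ^ i = x ^ (p * r - 1) := hi
    rw [← pow_mul, mul_comm, pow_mul, pow_succ, h3, ← pow_succ, Nat.sub_add_cancel hpos,
      Eig.pow_eq_one_of_mem_R _ e5 hx, one_pow]
  have f6 := orderOf_dvd_of_pow_eq_one f5
  rw [y2, ← ZMod.natCast_eq_zero_iff, Nat.cast_add, Nat.cast_pow, Nat.cast_one, add_eq_zero_iff_eq_neg] at f6
  have f7 := congrArg (· ^ d) f6
  rw [← pow_mul, mul_comm, pow_mul, ← o1, pow_orderOf_eq_one, one_pow, o1, o3.neg_one_pow] at f7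
  have : Fact (2 < p) := ⟨lt_of_le_of_ne hp.prime.two_le hp.ne_two.symm⟩
  exact ZMod.neg_one_ne_one f7.symm

end eig

theorem exists_ord {G : Type} [Group G] [Finite G] (hp : p.Prime) (T : Subgroup G) (h1 : p ∣ Nat.card G)
    (h2 : ¬ p ∣ T.index) : ∃ a ∈ T, orderOf a = p := by
  have := Fact.mk hp
  rw [← T.card_mul_index] at h1
  obtain ⟨a, ha⟩ := exists_prime_orderOf_dvd_card' (G := T) p ((hp.dvd_mul.1 h1).resolve_right h2)
  exact ⟨a, a.2, by rw [Subgroup.orderOf_coe, ha]⟩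

/-- **equal signs for the symplectic groups** -/
theorem sg_sp {n : ℕ} {X : Spc F} (hp : Good F p) (hr : Good F r) (hX : IsSp n X) (h1 : p ∣ Nat.card X.G)
    (h2 : r ∣ Nat.card X.G) (hc : Cond {p, r} X.G) (hne : p ≠ r) : ng F r = ng F p := by
  have hT : (famSp F).T n 1 X := ⟨hX, .inl rfl⟩
  have hd := dd_same _ hp hr hT h1 h2 hc
  have hdd := dd_two _ hp hr hT h1 h2 hc
  have hπ := good_two hp hr
  have hN := nn_pos _ hp hT h1
  obtain ⟨l1, l2⟩ := nn_lt _ hp hr hT h1 h2 hc hne rfl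
  have hM : (famSp F).E (dd F p) 1 (stdSp F (dd F p)) := isSp_std _
  obtain ⟨X', hX', hsp⟩ := (famSp F).splitT hT (m := dd F p) (ε' := 1) (by simpa using NN_mul_le _ _ hN) (.inl rfl)
    fun h => h.elim
  obtain ⟨e⟩ := hsp _ hM
  have hdv : ∀ s ∈ ({p, r} : Set ℕ), s ∣ Nat.card (stdSp F (dd F p)).G := fun s hs => by
    obtain ⟨a, ha⟩ := (famSp F).exists_elt (hπ s hs) (U := stdSp F (dd F p)) (by rw [hdd s hs]; exact hM)
    exact ha ▸ orderOf_dvd_natCard a
  obtain ⟨T, hT1, hT2⟩ : PT {p, r} (stdSp F (dd F p)).G := by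
    refine PT.of_cond (Y := X') (fun s hs => (hπ s hs).prime) (.inl rfl) (hc.congr e) (fun s hs => ?_) (hdv p (.inl rfl))
      ((famSp F).fix hM hp rfl) ((famSp F).comm hM hp rfl)
    have h3 := NN_sub (b := False) (d := dd F p) (n := n) (s := 1) (ε := 1) (.inl rfl) (k := 1) hN
    have h4 : NN False (dd F p) 1 n 1 < s := by
      rcases hs with rfl | rfl
      exacts [l1, l2]
    rw [one_mul, pow_one] at h3
    rw [← ev_congr s e, hX.ev (hπ s hs) 1, hX'.1.ev (hπ s hs) (1 * 1), (isSp_std _).ev (hπ s hs) 1, hdd s hs, h3,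
      NN_one hp.dd_pos, nu_one, nu_small (hπ s hs).prime h4, nu_small (hπ s hs).prime (lt_of_le_of_lt (Nat.sub_le _ _) h4)]
    obtain ⟨m, hm⟩ : ∃ m, NN False (dd F p) 1 n 1 = m + 1 := ⟨_, (Nat.succ_pred_eq_of_pos hN).symm⟩
    rw [hm, Nat.add_sub_cancel]
    ring
  obtain ⟨a, ha, ha'⟩ := exists_ord hp.prime T (hdv p (.inl rfl)) (hT2 p (.inl rfl))
  obtain ⟨b, hb, hb'⟩ := exists_ord hr.prime T (hdv r (.inr rfl)) (hT2 r (.inr rfl))
  have hab : Commute a.1 b.1 := congrArg Subtype.val (congrArg Subtype.val (hT1.is_comm.comm ⟨a, ha⟩ ⟨b, hb⟩))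
  obtain ⟨B, hB, hg, hdim⟩ := (isSp_std (F := F) (dd F p)).hyp
  have : FiniteDimensional F (stdSp F (dd F p)).V := Module.Finite.of_finite
  have y1 : Eig.Hyp B p (dd F p) := ⟨hp.prime, hp.ne_two, hp.ne_zero, hB, rfl, hdim⟩
  have y2 : Eig.Hyp B r (dd F p) := ⟨hr.prime, hr.ne_two, hr.ne_zero, hB, hd, hdim⟩
  have o1 := ord_of hp
  have o2 := ord_of hr
  rw [hd] at o2
  rw [← Subgroup.orderOf_coe] at ha' hb'
  cases c1 : ng F p <;> cases c2 : ng F r <;> rw [c1] at o1 <;> rw [c2] at o2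
  · exact (no_mix y1 y2 hne (hg a) (hg b) ha' hb' hab o1 o2).elim
  · exact (no_mix y2 y1 hne.symm (hg b) (hg a) hb' ha' hab.symm o2 o1).elim

/-- **the exceptional case**: an element whose order is the full power of `r` -/
theorem exists_gen {X : Spc F} (hr : Good F r) (hX : IsOE (2 * dd F r) (-1) X) :
    ∃ g : X.G, orderOf g = r ^ (Nat.card X.G).factorization r := by
  have := Fact.mk hr.prime
  have hd := hr.dd_pos
  have h1 : (Nat.card X.G).factorization r = vv F r := by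
    refine (hX.evE hr).trans ?_
    unfold NN
    rw [Nat.mul_div_cancel _ hd, if_pos ⟨trivial, Dvd.intro_left 2 rfl, by rw [sq, pm_sq (sg_pm F r)]; norm_num⟩, nu_one]
  have h2 : ((r ^ vv F r : ℕ) : ℤ) ∣ (Fintype.card F : ℤ) ^ dd F r - sg F r := by
    have h3 : ((Fintype.card F : ℤ) ^ 2) ^ dd F r - 1 =
        ((Fintype.card F : ℤ) ^ dd F r - sg F r) * ((Fintype.card F : ℤ) ^ dd F r - -sg F r) := by
      linear_combination pm_sq (sg_pm F r)
    have h4 : -sg F r = 1 ∨ -sg F r = -1 := by rcases sg_pm F r with h | h <;> simp [h]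
    have h5 : ¬ (r : ℤ) ∣ (Fintype.card F : ℤ) ^ dd F r - -sg F r := fun h => by
      have h6 := eq_of_dvd hr (sg_pm F r) h4 (by simpa using dvd_sub h hr.dvd_sg)
      rcases sg_pm F r with h | h <;> simp [h] at h6
    rw [vv, h3, H749.vp_mul r (card_pow_ne hd.ne' (sg_pm F r)) (card_pow_ne hd.ne' h4), H749.vp_eq_zero h5, add_zero,
      Int.natCast_dvd]
    exact Nat.ordProj_dvd _ _
  have h3 : H377.Elt F (dd F r) (sg F r) (r ^ vv F r) := by
    rcases sg_pm F r with h | h <;> rw [h] at h2 ⊢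
    · refine H377.elt_tor_plus hd (Int.natCast_dvd_natCast.1 ?_)
      rwa [Nat.cast_sub (Nat.one_le_pow _ _ Nat.card_pos), Nat.cast_pow (Nat.card F), Nat.card_eq_fintype_card]
    · refine H377.elt_tor_minus hd (Int.natCast_dvd_natCast.1 ?_)
      rwa [Nat.cast_add, Nat.cast_pow (Nat.card F), Nat.card_eq_fintype_card, ← sub_neg_eq_add]
  have h4 := h3.add hd (ε' := -sg F r) (by rcases sg_pm F r with h | h <;> simp [h])
  rw [← two_mul, mul_neg, pm_sq (sg_pm F r)] at h4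
  obtain ⟨h5, Q, g, hQ, hs, hg, ho⟩ := h4
  have hY : IsOE (2 * dd F r) (-1) { V := Fin (2 * (2 * dd F r)) → F, f := fun u _ => Q u } :=
    ⟨Q, fun _ _ => rfl, hQ, Module.finrank_fin_fun F, hs, .inr rfl⟩
  obtain ⟨e⟩ := hY.isoG hX
  obtain ⟨u, rfl⟩ := (orderOf_pos_iff.1 (ho ▸ h5)).isUnit
  refine ⟨e ⟨LinearMap.GeneralLinearGroup.generalLinearEquiv F _ u, fun v _ => hg v⟩, ?_⟩
  rw [MulEquiv.orderOf_eq, ← Subgroup.orderOf_coe, h1, ← ho, orderOf_units]
  exact MulEquiv.orderOf_eq (LinearMap.GeneralLinearGroup.generalLinearEquiv F _) u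

end Cfsg.Agent.PQ.Row
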